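import Mathlib

/-!
# Topological lemmas for spreading out pseudo-morphisms
-/

set_option autoImplicit false

open TopologicalSpace

namespace Groth.Agent.H5.RatStalk

/-- In a Noetherian quasi-sober space, a point in the closure of a locally closed set `C ∩ G`
is a specialization of a point of `C ∩ G`. -/
theorem exists_specializes_of_mem_closure {α : Type*} [TopologicalSpace α] [NoetherianSpace α]
    [QuasiSober α] (G : Set α) (hG : IsOpen G) (C : Set α) (hC : IsClosed C) (x : α)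
    (hx : x ∈ closure (C ∩ G)) : ∃ t ∈ C ∩ G, t ⤳ x := by
  obtain ⟨S, hSf, hSc, hSi, hSU⟩ :=
    NoetherianSpace.exists_finite_set_isClosed_irreducible (isClosed_closure (s := C ∩ G))
  have hsub : C ∩ G ⊆ ⋃ Z ∈ S, (Z ∩ (C ∩ G)) := by
    intro t ht
    have : t ∈ closure (C ∩ G) := subset_closure ht
    rw [hSU] at this
    obtain ⟨Z, hZ, htZ⟩ := this
    exact Set.mem_biUnion hZ ⟨htZ, ht⟩
  have hx' : x ∈ ⋃ Z ∈ S, closure (Z ∩ (C ∩ G)) := by
    rw [← hSf.closure_biUnion]
    exact closure_mono hsub hx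
  obtain ⟨Z, hZ, hxZ⟩ := Set.mem_iUnion₂.mp hx'
  obtain ⟨z, hz⟩ := QuasiSober.sober (hSi Z hZ) (hSc Z hZ)
  have hne : (Z ∩ (C ∩ G)).Nonempty := closure_nonempty_iff.mp ⟨x, hxZ⟩
  obtain ⟨t', ht'Z, ht'C, ht'G⟩ := hne
  have hzt' : z ⤳ t' := by
    rw [specializes_iff_mem_closure, hz.def]; exact ht'Z
  have hzG : z ∈ G := hzt'.mem_open hG ht'G
  have hzZ : z ∈ Z := hz.mem
  have hZsub : Z ⊆ closure (C ∩ G) := by
    rw [hSU]; exact Set.subset_sUnion_of_mem hZ
  have hzC : z ∈ C := by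
    have := hZsub hzZ
    exact (closure_minimal Set.inter_subset_left hC) this
  refine ⟨z, ⟨hzC, hzG⟩, ?_⟩
  rw [specializes_iff_mem_closure, hz.def]
  exact (closure_minimal Set.inter_subset_left (hSc Z hZ)) hxZ

/-- Variant inside an open subset which is a Noetherian quasi-sober space. -/
theorem exists_specializes_of_mem_closure' {α : Type*} [TopologicalSpace α] (V : Set α)
    [NoetherianSpace V] [QuasiSober V]
    (G : Set α) (hG : IsOpen G) (hGV : G ⊆ V) (C : Set α) (hC : IsClosed C) (x : α) (hxV : x ∈ V)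
    (hx : x ∈ closure (C ∩ G)) : ∃ t ∈ C ∩ G, t ⤳ x := by
  have hx' : (⟨x, hxV⟩ : V) ∈ closure (((↑) : V → α) ⁻¹' C ∩ ((↑) : V → α) ⁻¹' G) := by
    rw [closure_subtype, ← Set.preimage_inter, Subtype.image_preimage_coe]
    have : V ∩ (C ∩ G) = C ∩ G := by
      ext y; constructor
      · rintro ⟨-, h⟩; exact h
      · rintro h; exact ⟨hGV h.2, h⟩
    rw [this]; exact hx
  obtain ⟨t, ⟨htC, htG⟩, hts⟩ := exists_specializes_of_mem_closure
    (((↑) : V → α) ⁻¹' G) (hG.preimage continuous_subtype_val)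
    (((↑) : V → α) ⁻¹' C) (hC.preimage continuous_subtype_val) ⟨x, hxV⟩ hx'
  exact ⟨t.1, ⟨htC, htG⟩, hts.map continuous_subtype_val⟩

/-- If only finitely many irreducible components meet the open `W ∋ x`, there is a smaller open
neighbourhood of `x` all of whose points lie on an irreducible component through `x`. -/
theorem exists_open_all_components_through {α : Type*} [TopologicalSpace α] (x : α) (W : Set α)
    (hW : IsOpen W) (hxW : x ∈ W)
    (hfin : {Z : Set α | Z ∈ irreducibleComponents α ∧ (Z ∩ W).Nonempty}.Finite) :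
    ∃ W' : Set α, IsOpen W' ∧ x ∈ W' ∧ W' ⊆ W ∧
      ∀ y ∈ W', ∃ Z : Set α, IsIrreducible Z ∧ IsClosed Z ∧ y ∈ Z ∧ x ∈ Z := by
  set 𝒵 : Set (Set α) := {Z : Set α | Z ∈ irreducibleComponents α ∧ (Z ∩ W).Nonempty} with h𝒵
  set B : Set α := ⋃ Z ∈ {Z ∈ 𝒵 | x ∉ Z}, Z with hB
  have hBclosed : IsClosed B := by
    apply Set.Finite.isClosed_biUnion (hfin.subset (Set.sep_subset _ _))
    intro Z hZ
    exact isClosed_of_mem_irreducibleComponents Z hZ.1.1
  refine ⟨W ∩ Bᶜ, hW.inter hBclosed.isOpen_compl, ⟨hxW, ?_⟩, Set.inter_subset_left, ?_⟩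
  · intro hxB
    obtain ⟨Z, hZ, hxZ⟩ := Set.mem_iUnion₂.mp hxB
    exact hZ.2 hxZ
  · rintro y ⟨hyW, hyB⟩
    refine ⟨irreducibleComponent y, isIrreducible_irreducibleComponent,
      isClosed_irreducibleComponent, mem_irreducibleComponent, ?_⟩
    by_contra hx
    apply hyB
    refine Set.mem_iUnion₂.mpr ⟨irreducibleComponent y, ⟨⟨?_, ?_⟩, hx⟩, mem_irreducibleComponent⟩
    · exact irreducibleComponent_mem_irreducibleComponents y
    · exact ⟨y, mem_irreducibleComponent, hyW⟩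

end Groth.Agent.H5.RatStalk
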