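import Mathlib
import Groth.Agent.Lib.Helper5.RatStalk.RsA

/-!
# Spreading out a pseudo-morphism defined on the local scheme at a point
-/

set_option autoImplicit false

universe u

open CategoryTheory CategoryTheory.Limits AlgebraicGeometry TopologicalSpace

namespace Groth.Agent.H5.RatStalk

/-- A reduced scheme is germ-injective at `x` if near `x` every point lies on an irreducible
closed subset through `x`. -/
theorem isGermInjectiveAt_of_components {X : Scheme.{u}} [IsReduced X] (x : X) (W' : X.Opens)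
    (hx : x ∈ W')
    (hW' : ∀ y ∈ W', ∃ Z : Set X, IsIrreducible Z ∧ IsClosed Z ∧ y ∈ Z ∧ x ∈ Z) :
    X.IsGermInjectiveAt x := by
  obtain ⟨_, ⟨W'', hW''aff, rfl⟩, hxW'', hW''le⟩ :=
    X.isBasis_affineOpens.exists_subset_of_mem_open hx W'.2
  refine ⟨W'', hxW'', hW''aff, ?_⟩
  rw [RingHom.injective_iff_ker_eq_bot, RingHom.ker_eq_bot_iff_eq_zero]
  intro s hs
  obtain ⟨N, hxN, iU, iV, e⟩ := X.presheaf.germ_eq x hxW'' hxW'' s 0 (by rw [map_zero]; exact hs)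
  rw [map_zero] at e
  rw [← basicOpen_eq_bot_iff, eq_bot_iff]
  intro y hy
  have hyW'' : y ∈ W'' := X.basicOpen_le s hy
  obtain ⟨Z, hZi, -, hyZ, hxZ⟩ := hW' y (hW''le hyW'')
  obtain ⟨y', hy'Z, hy's, hy'N⟩ := hZi.isPreirreducible (X.basicOpen s) N (X.basicOpen s).2 N.2
    ⟨y, hyZ, hy⟩ ⟨x, hxZ, hxN⟩
  have : y' ∈ X.basicOpen (X.presheaf.map iU.op s) := by
    rw [Scheme.basicOpen_res]; exact ⟨hy'N, hy's⟩
  rw [e, Scheme.basicOpen_zero] at this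
  exact this

section core

variable {X : Scheme.{u}} (x : X) (U V₁ : X.Opens) (hxV₁ : x ∈ V₁)

include hxV₁ in
lemma range_subset :
    Set.range (pullback.fst (X.fromSpecStalk x) U.ι ≫ X.fromSpecStalk x) ⊆
      Set.range (U ⊓ V₁).ι := by
  rw [Scheme.Opens.range_ι]
  rintro _ ⟨z, rfl⟩
  refine ⟨?_, ?_⟩
  · rw [pullback.condition, Scheme.Hom.comp_apply]
    have hx : U.ι (pullback.snd (X.fromSpecStalk x) U.ι z) ∈ Set.range U.ι := ⟨_, rfl⟩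
    rwa [Scheme.Opens.range_ι] at hx
  · rw [Scheme.Hom.comp_apply]
    have : X.fromSpecStalk x (pullback.fst (X.fromSpecStalk x) U.ι z) ∈
        Set.range (X.fromSpecStalk x) := ⟨_, rfl⟩
    rw [Scheme.range_fromSpecStalk] at this
    exact Specializes.mem_open this V₁.2 hxV₁

/-- The canonical morphism from `Spec 𝒪_{X,x} ×_X U` to the open `U ⊓ V₁`. -/
noncomputable def toOpen : pullback (X.fromSpecStalk x) U.ι ⟶ (U ⊓ V₁).toScheme :=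
  IsOpenImmersion.lift (U ⊓ V₁).ι (pullback.fst (X.fromSpecStalk x) U.ι ≫ X.fromSpecStalk x)
    (range_subset x U V₁ hxV₁)

@[reassoc]
lemma toOpen_ι : toOpen x U V₁ hxV₁ ≫ (U ⊓ V₁).ι =
    pullback.fst (X.fromSpecStalk x) U.ι ≫ X.fromSpecStalk x :=
  IsOpenImmersion.lift_fac _ _ _

@[reassoc]
lemma toOpen_right : toOpen x U V₁ hxV₁ ≫ X.homOfLE (inf_le_right : U ⊓ V₁ ≤ V₁) =
    pullback.fst (X.fromSpecStalk x) U.ι ≫ V₁.fromSpecStalkOfMem x hxV₁ := by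
  rw [← cancel_mono V₁.ι, Category.assoc, Scheme.homOfLE_ι, toOpen_ι, Category.assoc,
    Scheme.Opens.fromSpecStalkOfMem_ι]

@[reassoc]
lemma toOpen_left : toOpen x U V₁ hxV₁ ≫ X.homOfLE (inf_le_left : U ⊓ V₁ ≤ U) =
    pullback.snd (X.fromSpecStalk x) U.ι := by
  rw [← cancel_mono U.ι, Category.assoc, Scheme.homOfLE_ι, toOpen_ι, pullback.condition]

lemma mem_range_toOpen (u' : (U ⊓ V₁).toScheme) (hu : (U ⊓ V₁).ι u' ⤳ x) :
    u' ∈ Set.range (toOpen x U V₁ hxV₁) := by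
  have h1 : (U ⊓ V₁).ι u' ∈ Set.range (X.fromSpecStalk x) := by
    rw [Scheme.range_fromSpecStalk]; exact hu
  obtain ⟨s, hs⟩ := h1
  have huU : (U ⊓ V₁).ι u' ∈ U := by
    have hx : (U ⊓ V₁).ι u' ∈ Set.range (U ⊓ V₁).ι := ⟨_, rfl⟩
    rw [Scheme.Opens.range_ι] at hx
    exact hx.1
  obtain ⟨z, hz1, hz2⟩ := Scheme.Pullback.exists_preimage_pullback (f := X.fromSpecStalk x)
    (g := U.ι) s (⟨(U ⊓ V₁).ι u', huU⟩ : U.toScheme) hs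
  refine ⟨z, ?_⟩
  apply (U ⊓ V₁).ι.isOpenEmbedding.injective
  rw [← Scheme.Hom.comp_apply, toOpen_ι, Scheme.Hom.comp_apply, hz1, hs]

lemma exists_factor (u' : (U ⊓ V₁).toScheme) (hu : (U ⊓ V₁).ι u' ⤳ x) :
    ∃ ℓ : Spec ((U ⊓ V₁).toScheme.presheaf.stalk u') ⟶ pullback (X.fromSpecStalk x) U.ι,
      ℓ ≫ toOpen x U V₁ hxV₁ = (U ⊓ V₁).toScheme.fromSpecStalk u' := by
  let α : Spec ((U ⊓ V₁).toScheme.presheaf.stalk u') ⟶ Spec (X.presheaf.stalk x) :=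
    Spec.map ((U ⊓ V₁).ι.stalkMap u') ≫ Spec.map (X.presheaf.stalkSpecializes hu)
  let β : Spec ((U ⊓ V₁).toScheme.presheaf.stalk u') ⟶ U.toScheme :=
    (U ⊓ V₁).toScheme.fromSpecStalk u' ≫ X.homOfLE inf_le_left
  have hα : α ≫ X.fromSpecStalk x = (U ⊓ V₁).toScheme.fromSpecStalk u' ≫ (U ⊓ V₁).ι := by
    simp only [α, Category.assoc, Scheme.SpecMap_stalkSpecializes_fromSpecStalk,
      Scheme.SpecMap_stalkMap_fromSpecStalk]
  have hβ : β ≫ U.ι = (U ⊓ V₁).toScheme.fromSpecStalk u' ≫ (U ⊓ V₁).ι := by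
    simp only [β, Category.assoc, Scheme.homOfLE_ι]
  refine ⟨pullback.lift α β (hα.trans hβ.symm), ?_⟩
  rw [← cancel_mono (U ⊓ V₁).ι, Category.assoc, toOpen_ι, pullback.lift_fst_assoc, hα]

lemma toOpen_comp_eq {Y : Scheme.{u}} (v₁ : V₁.toScheme ⟶ Y) (h : U.toScheme ⟶ Y)
    (w : Spec (X.presheaf.stalk x) ⟶ Y)
    (hw1 : w = V₁.fromSpecStalkOfMem x hxV₁ ≫ v₁)
    (hw2 : pullback.fst (X.fromSpecStalk x) U.ι ≫ w =
      pullback.snd (X.fromSpecStalk x) U.ι ≫ h) :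
    toOpen x U V₁ hxV₁ ≫ X.homOfLE inf_le_right ≫ v₁ =
      toOpen x U V₁ hxV₁ ≫ X.homOfLE inf_le_left ≫ h := by
  rw [toOpen_right_assoc, toOpen_left_assoc, ← hw1, hw2]

/-- Noetherian case: two morphisms on `U ⊓ V₁` agreeing on `Spec 𝒪_{X,x} ×_X U` agree on
`U ⊓ V` for a smaller neighbourhood `V` of `x`. -/
theorem exists_open_agree_noetherian [IsLocallyNoetherian X] (hV₁ : IsAffineOpen V₁)
    {Y : Scheme.{u}} (f g : (U ⊓ V₁).toScheme ⟶ Y)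
    (hfg : toOpen x U V₁ hxV₁ ≫ f = toOpen x U V₁ hxV₁ ≫ g) :
    ∃ V : X.Opens, x ∈ V ∧ V ≤ V₁ ∧
      ∀ (hle : U ⊓ V ≤ U ⊓ V₁), X.homOfLE hle ≫ f = X.homOfLE hle ≫ g := by
  haveI : IsLocallyNoetherian (U ⊓ V₁).toScheme := isLocallyNoetherian_of_isOpenImmersion (U ⊓ V₁).ι
  have hlocal : ∀ u' : (U ⊓ V₁).toScheme, (U ⊓ V₁).ι u' ⤳ x →
      ∃ N' : (U ⊓ V₁).toScheme.Opens, u' ∈ N' ∧ N'.ι ≫ f = N'.ι ≫ g := by
    intro u' hu
    obtain ⟨ℓ, hℓ⟩ := exists_factor x U V₁ hxV₁ u' hu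
    apply spread_out_unique_of_isGermInjective'
    rw [← hℓ, Category.assoc, Category.assoc, hfg]
  let 𝒩 := {N' : (U ⊓ V₁).toScheme.Opens // N'.ι ≫ f = N'.ι ≫ g}
  let O : (U ⊓ V₁).toScheme.Opens := ⨆ N' : 𝒩, N'.1
  have hO : O.ι ≫ f = O.ι ≫ g := by
    refine (Scheme.Opens.iSupOpenCover (fun N' : 𝒩 => N'.1)).hom_ext _ _ (fun N' => ?_)
    have e : ∀ k : (U ⊓ V₁).toScheme ⟶ Y,
        (Scheme.Opens.iSupOpenCover (fun N' : 𝒩 => N'.1)).f N' ≫ O.ι ≫ k = N'.1.ι ≫ k := by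
      intro k
      change (U ⊓ V₁).toScheme.homOfLE (le_iSup (fun N' : 𝒩 => N'.1) N') ≫ _ = _
      rw [Scheme.homOfLE_ι_assoc]
    rw [e, e]
    exact N'.2
  let OX : X.Opens := (U ⊓ V₁).ι ''ᵁ O
  let C : Set X := (OX : Set X)ᶜ
  have hC : IsClosed C := OX.2.isClosed_compl
  have hxT : x ∉ closure (C ∩ ((U ⊓ V₁ : X.Opens) : Set X)) := by
    intro hx
    haveI : IsNoetherianRing Γ(X, V₁) := IsLocallyNoetherian.component_noetherian ⟨V₁, hV₁⟩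
    haveI : NoetherianSpace ↥((V₁ : X.Opens) : Set X) :=
      noetherianSpace_of_isAffineOpen V₁ hV₁
    haveI : QuasiSober ↥((V₁ : X.Opens) : Set X) :=
      inferInstanceAs (QuasiSober V₁.toScheme)
    obtain ⟨t, ⟨htC, htG⟩, hts⟩ := exists_specializes_of_mem_closure' ((V₁ : X.Opens) : Set X)
      ((U ⊓ V₁ : X.Opens) : Set X) (U ⊓ V₁).2 (fun y hy => hy.2) C hC x hxV₁ hx
    obtain ⟨N', ht'N', hN'⟩ := hlocal ⟨t, htG⟩ hts
    apply htC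
    refine ⟨⟨t, htG⟩, ?_, rfl⟩
    exact TopologicalSpace.Opens.mem_iSup.mpr ⟨⟨N', hN'⟩, ht'N'⟩
  let V : X.Opens := V₁ ⊓ ⟨(closure (C ∩ ((U ⊓ V₁ : X.Opens) : Set X)))ᶜ, isClosed_closure.isOpen_compl⟩
  refine ⟨V, ⟨hxV₁, hxT⟩, inf_le_left, fun hle => ?_⟩
  have hUVO : ∀ y ∈ U ⊓ V, y ∈ OX := by
    intro y hy
    by_contra hyO
    exact hy.2.2 (subset_closure ⟨hyO, hle hy⟩)
  have hr : Set.range (U ⊓ V).ι ⊆ Set.range (O.ι ≫ (U ⊓ V₁).ι) := by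
    rintro _ ⟨z, rfl⟩
    have hz : (U ⊓ V).ι z ∈ U ⊓ V := by
      have hx : (U ⊓ V).ι z ∈ Set.range (U ⊓ V).ι := ⟨_, rfl⟩
      rwa [Scheme.Opens.range_ι] at hx
    obtain ⟨o, ho, hoeq⟩ := hUVO _ hz
    exact ⟨⟨o, ho⟩, hoeq⟩
  have e₀ := IsOpenImmersion.lift_fac (O.ι ≫ (U ⊓ V₁).ι) (U ⊓ V).ι hr
  have e₁ : X.homOfLE hle = IsOpenImmersion.lift (O.ι ≫ (U ⊓ V₁).ι) (U ⊓ V).ι hr ≫ O.ι := by
    rw [← cancel_mono (U ⊓ V₁).ι, Scheme.homOfLE_ι, Category.assoc, e₀]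
  rw [e₁, Category.assoc, Category.assoc, hO]

/-- Reduced case: two `S`-morphisms on `U ⊓ V₁` to a separated `S`-scheme agreeing on
`Spec 𝒪_{X,x} ×_X U` are equal, if every point of `V₁` lies on an irreducible closed set through
`x`. -/
theorem eq_of_components [IsReduced X] {Y S : Scheme.{u}} (pY : Y ⟶ S) [IsSeparated pY]
    (hW' : ∀ y ∈ V₁, ∃ Z : Set X, IsIrreducible Z ∧ IsClosed Z ∧ y ∈ Z ∧ x ∈ Z)
    (f g : (U ⊓ V₁).toScheme ⟶ Y) (hS : f ≫ pY = g ≫ pY)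
    (hfg : toOpen x U V₁ hxV₁ ≫ f = toOpen x U V₁ hxV₁ ≫ g) : f = g := by
  haveI : IsDominant (toOpen x U V₁ hxV₁) := by
    refine ⟨?_⟩
    rw [DenseRange, dense_iff_inter_open]
    rintro O' hO' ⟨y', hy'⟩
    have hyV₁ : (U ⊓ V₁).ι y' ∈ V₁ := by
      have hx : (U ⊓ V₁).ι y' ∈ Set.range (U ⊓ V₁).ι := ⟨_, rfl⟩
      rw [Scheme.Opens.range_ι] at hx
      exact hx.2
    obtain ⟨Z, hZi, hZc, hyZ, hxZ⟩ := hW' _ hyV₁
    obtain ⟨η, hη⟩ := QuasiSober.sober hZi hZc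
    have hηy : η ⤳ (U ⊓ V₁).ι y' := by
      rw [specializes_iff_mem_closure, hη.def]; exact hyZ
    have hηx : η ⤳ x := by
      rw [specializes_iff_mem_closure, hη.def]; exact hxZ
    have hηO : η ∈ (U ⊓ V₁).ι ''ᵁ ⟨O', hO'⟩ :=
      hηy.mem_open ((U ⊓ V₁).ι ''ᵁ ⟨O', hO'⟩).2 ⟨y', hy', rfl⟩
    obtain ⟨η', hη'O, hη'⟩ := hηO
    refine ⟨η', hη'O, ?_⟩
    apply mem_range_toOpen
    have e : (U ⊓ V₁).ι η' = η := hη'
    rw [e]; exact hηx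
  exact ext_of_isDominant_of_isSeparated pY hS (toOpen x U V₁ hxV₁) hfg

end core

/-- The main theorem: a pseudo-morphism is defined at `x` iff its restriction to
`Spec 𝒪_{X,x}` is everywhere defined. -/
theorem main {X Y S : Scheme.{u}} (pX : X ⟶ S) (pY : Y ⟶ S)
    [IsSeparated pY] [LocallyOfFinitePresentation pY]
    (hX : IsLocallyNoetherian X ∨ (IsReduced X ∧ ∀ x : ↥X, ∃ W : X.Opens, x ∈ W ∧
      {Z : Set ↥X | Z ∈ irreducibleComponents ↥X ∧ (Z ∩ (W : Set ↥X)).Nonempty}.Finite))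
    (U : X.Opens) (h : (U : Scheme.{u}) ⟶ Y) (hh : h ≫ pY = U.ι ≫ pX)
    (x : ↥X) :
    (∃ (V : X.Opens) (v : (V : Scheme.{u}) ⟶ Y), x ∈ V ∧ v ≫ pY = V.ι ≫ pX ∧
        X.homOfLE (inf_le_right : U ⊓ V ≤ V) ≫ v = X.homOfLE (inf_le_left : U ⊓ V ≤ U) ≫ h) ↔
      ∃ w : Spec (X.presheaf.stalk x) ⟶ Y, w ≫ pY = X.fromSpecStalk x ≫ pX ∧
        pullback.fst (X.fromSpecStalk x) U.ι ≫ w = pullback.snd (X.fromSpecStalk x) U.ι ≫ h := by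
  constructor
  · rintro ⟨V, v, hxV, hvS, hvh⟩
    refine ⟨V.fromSpecStalkOfMem x hxV ≫ v, ?_, ?_⟩
    · rw [Category.assoc, hvS, Scheme.Opens.fromSpecStalkOfMem_ι_assoc]
    · rw [← toOpen_right_assoc x U V hxV, hvh, toOpen_left_assoc]
  · rintro ⟨w, hwS, hwh⟩
    obtain ⟨W', hxW', hgi, hcase⟩ : ∃ W' : X.Opens, x ∈ W' ∧ X.IsGermInjectiveAt x ∧
        (IsLocallyNoetherian X ∨ (IsReduced X ∧
          ∀ y ∈ W', ∃ Z : Set X, IsIrreducible Z ∧ IsClosed Z ∧ y ∈ Z ∧ x ∈ Z)) := by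
      rcases hX with hN | ⟨hred, hfin⟩
      · exact ⟨⊤, trivial, inferInstance, Or.inl hN⟩
      · obtain ⟨W, hxW, hWfin⟩ := hfin x
        obtain ⟨W', hW'o, hxW', -, hW'⟩ :=
          exists_open_all_components_through x (W : Set X) W.2 hxW hWfin
        exact ⟨⟨W', hW'o⟩, hxW', isGermInjectiveAt_of_components x ⟨W', hW'o⟩ hxW' hW',
          Or.inr ⟨hred, hW'⟩⟩
    haveI := hgi
    obtain ⟨V₀, hxV₀, v₀, hwv₀, hv₀S⟩ := spread_out_of_isGermInjective' pX pY w hwS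
    obtain ⟨_, ⟨V₁ : X.Opens, hV₁aff, rfl⟩, hxV₁, hV₁le⟩ :=
      X.isBasis_affineOpens.exists_subset_of_mem_open (show x ∈ V₀ ⊓ W' from ⟨hxV₀, hxW'⟩)
        (V₀ ⊓ W').2
    have hV₁V₀ : V₁ ≤ V₀ := fun y hy => (hV₁le hy).1
    have hV₁W' : V₁ ≤ W' := fun y hy => (hV₁le hy).2
    have hv₁S : (X.homOfLE hV₁V₀ ≫ v₀) ≫ pY = V₁.ι ≫ pX := by
      rw [Category.assoc, hv₀S, Scheme.homOfLE_ι_assoc]
    have hwv₁ : w = V₁.fromSpecStalkOfMem x hxV₁ ≫ (X.homOfLE hV₁V₀ ≫ v₀) := by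
      rw [hwv₀, ← Category.assoc]
      congr 1
      rw [← cancel_mono V₀.ι, Category.assoc, Scheme.homOfLE_ι,
        Scheme.Opens.fromSpecStalkOfMem_ι, Scheme.Opens.fromSpecStalkOfMem_ι]
    have hP := toOpen_comp_eq x U V₁ hxV₁ (X.homOfLE hV₁V₀ ≫ v₀) h w hwv₁ hwh
    rcases hcase with hN | ⟨hred, hW'⟩
    · obtain ⟨V, hxV, hVV₁, hagree⟩ := exists_open_agree_noetherian x U V₁ hxV₁ hV₁aff _ _ hP
      refine ⟨V, X.homOfLE hVV₁ ≫ (X.homOfLE hV₁V₀ ≫ v₀), hxV, ?_, ?_⟩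
      · rw [Category.assoc, hv₁S, Scheme.homOfLE_ι_assoc]
      · have hle : U ⊓ V ≤ U ⊓ V₁ := inf_le_inf_left U hVV₁
        have := hagree hle
        simp only [Scheme.homOfLE_homOfLE_assoc] at this ⊢
        exact this
    · have hS : (X.homOfLE (inf_le_right : U ⊓ V₁ ≤ V₁) ≫ X.homOfLE hV₁V₀ ≫ v₀) ≫ pY =
          (X.homOfLE (inf_le_left : U ⊓ V₁ ≤ U) ≫ h) ≫ pY := by
        rw [Category.assoc, hv₁S, Category.assoc, hh, Scheme.homOfLE_ι_assoc,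
          Scheme.homOfLE_ι_assoc]
      have := eq_of_components x U V₁ hxV₁ pY (fun y hy => hW' y (hV₁W' hy)) _ _ hS hP
      exact ⟨V₁, X.homOfLE hV₁V₀ ≫ v₀, hxV₁, hv₁S, this⟩

end Groth.Agent.H5.RatStalk
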